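import Cfsg.Agent.H306.DG.Shift

/-!
# Two elements generating `SU_n(q)` modulo a semilinear monomial element (helper306, S4180 C8)
-/

set_option autoImplicit false

namespace Cfsg.Agent.H306.DG.PSU

open Cfsg Cfsg.Agent.LieClassical.HermBasic Cfsg.Agent.LieClassical.HermSiegel
  Cfsg.Agent.LieClassical.HermGen Cfsg.Agent.LieClassical.SUBasic
  Cfsg.Agent.ClassicalGeometry.PSUAutCount Cfsg.Agent.ClassicalGeometry.UnitAutBasic Matrix
open Cfsg.Agent.H903.SylSemi Cfsg.Agent.H177.MeetPSU Cfsg.Agent.H137.Herm Cfsg.Agent.H450.GenU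

variable {F : Type} [Field F] [Fintype F] {q : ℕ}

/-- The core in even dimension. -/
theorem core_even (hF : Fintype.card F = q ^ 2) {m : ℕ} [NeZero m] (hm : 2 ≤ m)
    {v : ZMod (2 * m) → Fin (2 * m) → F} (W : Witt q (fun j => j + (m : ZMod (2 * m))) v)
    {M : Subgroup (MulAut (PSU (2 * m) F q))} {ρ : F ≃+* F} {S w : Equiv.Perm (Fin (2 * m) → F)}
    {δ γ : ZMod (2 * m) → F} (hδ0 : δ 0 ≠ 0) (hγ : ∀ j, γ j ≠ 0)
    (hS : SI (2 * m) q (1 : F ≃+* F) S) (hSv : ∀ j, S (v j) = δ j • v j)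
    (hw : SI (2 * m) q ρ w) (hwv : ∀ j, w (v j) = γ j • v (j + 1))
    (hx1 : δ 0 ^ q * δ ((m : ZMod (2 * m)) + 1) ≠ 1) (hne : δ (-1) ^ q * δ (m : ZMod (2 * m)) ≠ 1)
    (hsq : ∀ c : F, c ≠ 0 → ∃ k : ℕ, (δ 0 ^ q * δ ((m : ZMod (2 * m)) + 1)) ^ k = c ^ 2)
    (hk : IsSiegel q (v 0) (v ((m : ZMod (2 * m)) + 1)) (0 : F))
    (hSM : S ∈ LL M)
    (hyM : rho (2 * m) F q (siegel hF (v 0) (v ((m : ZMod (2 * m)) + 1)) 0 hk) * w ∈ LL M) :
    KK M = ⊤ ∧ w ∈ LL M := by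
  have : NeZero (2 * m) := ⟨by omega⟩
  have hv : Std q v := W.gram
  have hc : Fintype.card (ZMod (2 * m)) = 2 * m := ZMod.card _
  have hh : ∀ j, (w * S * w⁻¹) (v (j + 1)) = ρ (δ j) • v (j + 1) := fun j =>
    conj_eig_semi hw (hγ j) (hwv j) hS (hSv j)
  have hh0 : (w * S * w⁻¹) (v 0) = ρ (δ (-1)) • v 0 := by
    have := hh (-1)
    rwa [neg_add_cancel] at this
  have hhI : SI (2 * m) q (1 : F ≃+* F) (w * S * w⁻¹) := by
    have h := (hw.mul hS).mul hw.inv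
    rwa [mul_one, mul_inv_cancel] at h
  have hcomm : S * (w * S * w⁻¹) = (w * S * w⁻¹) * S := by
    refine witt_ext W hc (ρ := 1) (SI.mul1 hS hhI) (SI.mul1 hhI hS) ?_
    intro i
    have e1 : (w * S * w⁻¹) (v i) = ρ (δ (i - 1)) • v i := by
      have := hh (i - 1)
      rwa [sub_add_cancel] at this
    rw [Equiv.Perm.mul_apply S, Equiv.Perm.mul_apply (w * S * w⁻¹) S, e1, hSv, hS.smul, hhI.smul, hSv, e1,
      smul_smul, smul_smul, RingAut.one_apply, RingAut.one_apply, mul_comm (ρ (δ (i - 1)))]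
  have h1 := torus_semi0 (hF := hF) (hv.iso _) hS hw hSM hk hyM (hSv 0) (hSv _) hh0 (hh _) hcomm
  set x := δ 0 ^ q * δ ((m : ZMod (2 * m)) + 1) with hx
  have hcne : ρ (δ (-1)) ^ q * ρ (δ (m : ZMod (2 * m))) ≠ 1 := by
    rw [← map_pow, ← map_mul]
    intro h
    apply hne
    apply ρ.injective
    rw [h, map_one]
  have hne0 : (x - 1) * (1 - ρ (δ (-1)) ^ q * ρ (δ (m : ZMod (2 * m)))) ≠ 0 :=
    mul_ne_zero (sub_ne_zero.2 hx1) (sub_ne_zero.2 (Ne.symm hcne))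
  have hRmul : ∀ a ∈ RS hF (KK M) (v 0) (v ((m : ZMod (2 * m)) + 1)) (hv.iso 0) (hv.iso _), ∀ k : ℕ,
      x ^ k * a ∈ RS hF (KK M) (v 0) (v ((m : ZMod (2 * m)) + 1)) (hv.iso 0) (hv.iso _) := by
    intro a ha k
    induction k with
    | zero => rwa [pow_zero, one_mul]
    | succ k ih =>
      have h2 := SM_eig hSM hS (mem_RS.1 ih) (hSv 0) (t := δ ((m : ZMod (2 * m)) + 1)) (by
        rw [hS.smul, hSv, smul_smul, smul_smul, RingAut.one_apply, mul_comm (x ^ k * a)])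
      refine mem_RS.2 (h2.congr rfl ?_ ?_)
      · rw [smul_smul, pow_succ, hx]
        congr 1
        ring
      · rw [RingAut.one_apply, mul_zero]
  have hall : ∀ a, a ∈ RS hF (KK M) (v 0) (v ((m : ZMod (2 * m)) + 1)) (hv.iso 0) (hv.iso _) := by
    refine mem_of_sq _ ?_ (mem_RS.2 h1) hne0
    intro c hc0 y hy
    obtain ⟨k, hk⟩ := hsq c hc0
    rw [← hk]
    exact hRmul y hy k
  have h0 : R hF (KK M) v 0 ((m : ZMod (2 * m)) + 1) := fun a => hall a
  have hwM : w ∈ LL M := by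
    obtain ⟨k', hk'⟩ := (mem_RS.1 (hall 1)).congr rfl (one_smul F _) rfl
    have := mul_mem (inv_mem (mem_KK.1 hk')) hyM
    rwa [inv_mul_cancel_left] at this
  refine ⟨?_, hwM⟩
  have hR := R_all hm hv (fun i j h => R_shift hwM hw hγ hwv h) h0
  refine top_of_WS (hF := hF) (by omega) hv hwM hw hγ hwv ?_
  intro x hx
  rw [W.expand hc x]
  apply AddSubgroup.sum_mem
  intro j _
  by_cases hj0 : j = 0
  · rw [hj0]; exact mem_WS_self _ _
  · by_cases hjm : j = (m : ZMod (2 * m))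
    · rw [hjm, two_half, hx, zero_smul]
      exact AddSubgroup.zero_mem _
    · exact ⟨0, hR 0 j hj0 (by rwa [zero_add]) _⟩

/-- The core in odd dimension. -/
theorem core_odd (hF : Fintype.card F = q ^ 2) {m : ℕ} [NeZero m] (hm : 2 ≤ m) (D : Odd' q m F)
    {M : Subgroup (MulAut (PSU (2 * m + 1) F q))} {ρ : F ≃+* F} {S w : Equiv.Perm (Fin (2 * m + 1) → F)}
    {δ γ : ZMod (2 * m) → F} {c b : F} (hb : b ≠ 0) (hγ : ∀ j, γ j ≠ 0)
    (hS : SI (2 * m + 1) q (1 : F ≃+* F) S) (hSv : ∀ j, S (D.v j) = δ j • D.v j) (hSd : S D.d = c • D.d)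
    (hw : SI (2 * m + 1) q ρ w) (hwv : ∀ j, w (D.v j) = γ j • D.v (j + 1)) (hwd : w D.d = b • D.d)
    (hx1 : δ 0 ^ q * c ≠ 1) (hne : δ (-1) ^ q * c ≠ 1)
    (hgen : ∀ y : F, y ≠ 0 → ∃ k : ℕ, (δ 0 ^ q * c) ^ k = y)
    {μ : F} (hk : IsSiegel q (D.v 0) D.d μ)
    (hSM : S ∈ LL M)
    (hyM : rho (2 * m + 1) F q (siegel hF (D.v 0) D.d μ hk) * w ∈ LL M) :
    KK M = ⊤ ∧ w ∈ LL M := by
  have : NeZero (2 * m) := ⟨by omega⟩
  have hc : Fintype.card (Option (ZMod (2 * m))) = 2 * m + 1 := by rw [Fintype.card_option, ZMod.card]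
  have hv : Std q D.v := D.std
  have hh : ∀ j, (w * S * w⁻¹) (D.v (j + 1)) = ρ (δ j) • D.v (j + 1) := fun j =>
    conj_eig_semi hw (hγ j) (hwv j) hS (hSv j)
  have hh0 : (w * S * w⁻¹) (D.v 0) = ρ (δ (-1)) • D.v 0 := by
    have := hh (-1)
    rwa [neg_add_cancel] at this
  have hhd : (w * S * w⁻¹) D.d = ρ c • D.d := conj_eig_semi hw hb hwd hS hSd
  have hhI : SI (2 * m + 1) q (1 : F ≃+* F) (w * S * w⁻¹) := by
    have h := (hw.mul hS).mul hw.inv
    rwa [mul_one, mul_inv_cancel] at h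
  have hcomm : S * (w * S * w⁻¹) = (w * S * w⁻¹) * S := by
    refine witt_ext D.W hc (ρ := 1) (SI.mul1 hS hhI) (SI.mul1 hhI hS) ?_
    rintro (_ | i)
    · change (S * (w * S * w⁻¹)) D.d = ((w * S * w⁻¹) * S) D.d
      rw [Equiv.Perm.mul_apply S, Equiv.Perm.mul_apply (w * S * w⁻¹) S, hhd, hSd, hS.smul, hhI.smul, hSd, hhd,
        smul_smul, smul_smul, RingAut.one_apply, RingAut.one_apply, mul_comm (ρ c)]
    · change (S * (w * S * w⁻¹)) (D.v i) = ((w * S * w⁻¹) * S) (D.v i)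
      have e1 : (w * S * w⁻¹) (D.v i) = ρ (δ (i - 1)) • D.v i := by
        have := hh (i - 1)
        rwa [sub_add_cancel] at this
      rw [Equiv.Perm.mul_apply S, Equiv.Perm.mul_apply (w * S * w⁻¹) S, e1, hSv, hS.smul, hhI.smul, hSv, e1,
        smul_smul, smul_smul, RingAut.one_apply, RingAut.one_apply, mul_comm (ρ (δ (i - 1)))]
  obtain ⟨μ', h1⟩ := torus_semi hS hw hSM hk hyM (hSv 0) hSd hh0 hhd hcomm
  set x := δ 0 ^ q * c with hx
  have hcne : ρ (δ (-1)) ^ q * ρ c ≠ 1 := by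
    rw [← map_pow, ← map_mul]
    intro h
    apply hne
    apply ρ.injective
    rw [h, map_one]
  have hne0 : (x - 1) * (1 - ρ (δ (-1)) ^ q * ρ c) ≠ 0 :=
    mul_ne_zero (sub_ne_zero.2 hx1) (sub_ne_zero.2 (Ne.symm hcne))
  -- all multiples of `d`
  have hYmul : ∀ a : F, a • D.d ∈ WS hF (KK M) (D.v 0) (hv.iso 0) → ∀ k : ℕ,
      (x ^ k * a) • D.d ∈ WS hF (KK M) (D.v 0) (hv.iso 0) := by
    intro a ha k
    induction k with
    | zero => rwa [pow_zero, one_mul]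
    | succ k ih =>
      obtain ⟨ν, hν⟩ := ih
      have h2 := SM_eig hSM hS hν (hSv 0) (t := c) (by
        rw [hS.smul, hSd, smul_smul, smul_smul, RingAut.one_apply, mul_comm (x ^ k * a)])
      refine ⟨_, h2.congr rfl ?_ rfl⟩
      rw [smul_smul, pow_succ, hx]
      congr 1
      ring
  have hall : ∀ a : F, a • D.d ∈ WS hF (KK M) (D.v 0) (hv.iso 0) := by
    intro a
    by_cases ha : a = 0
    · rw [ha, zero_smul]; exact AddSubgroup.zero_mem _
    · obtain ⟨k, hk⟩ := hgen _ (div_ne_zero ha hne0)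
      have h3 := hYmul _ ⟨μ', h1⟩ k
      rwa [hk, div_mul_cancel₀ _ hne0] at h3
  -- the centre
  have hcen : ∀ ν : F, ν + ν ^ q = 0 → SM hF (KK M) (D.v 0) 0 ν := fun ν hν =>
    SM.center (w := D.d) (w' := D.d) one_ne_zero (hv.iso 0) hall
      (by have := hall 1; rwa [one_smul] at this) D.hdd hν
  have htau : SM hF (KK M) (D.v 0) D.d μ := by
    obtain ⟨ν, hν⟩ := hall 1
    rw [one_smul] at hν
    have h3 : SM hF (KK M) (D.v 0) 0 (μ - ν) := by
      apply hcen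
      obtain ⟨k', -⟩ := hν
      rw [sub_pow_q hF]
      linear_combination hk.tr - k'.tr
    refine (hν.mul h3).congr rfl (add_zero _) ?_
    rw [herm_zero_left]
    ring
  have hwM : w ∈ LL M := by
    obtain ⟨k', hk'⟩ := htau
    have := mul_mem (inv_mem (mem_KK.1 hk')) hyM
    rwa [inv_mul_cancel_left] at this
  refine ⟨?_, hwM⟩
  -- translates
  have hshift : ∀ k : ℕ, ∃ (e ν : F), e ≠ 0 ∧ SM hF (KK M) (D.v (k : ZMod (2 * m))) (e • D.d) ν := by
    intro k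
    induction k with
    | zero => exact ⟨1, μ, one_ne_zero, htau.congr (by rw [Nat.cast_zero]) (one_smul F _).symm rfl⟩
    | succ k ih =>
      obtain ⟨e, ν, he, h⟩ := ih
      have h2 := (SM_semi hwM hw h).congr (hwv _) rfl rfl
      have hq' : (γ (k : ZMod (2 * m))) ^ q ≠ 0 := pow_ne_zero _ (hγ _)
      refine ⟨γ (k : ZMod (2 * m)) ^ q * (ρ e * b), _, mul_ne_zero hq' (mul_ne_zero ?_ hb), (h2.smul (hγ _)).congr ?_ ?_ rfl⟩
      · exact (map_ne_zero ρ).2 he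
      · rw [Nat.cast_succ]
      · rw [hw.smul, hwd, smul_smul, smul_smul, mul_assoc]
  have hR0 : R hF (KK M) D.v 0 ((m : ZMod (2 * m)) + 1) := by
    intro a
    obtain ⟨e, ν, he, h⟩ := hshift (m + 1)
    have hcast : ((m + 1 : ℕ) : ZMod (2 * m)) = (m : ZMod (2 * m)) + 1 := by push_cast; ring
    rw [hcast] at h
    have h10 : (1 : ZMod (2 * m)) ≠ 0 := by
      rw [← Nat.cast_one, ← Nat.cast_zero, Ne, cast_inj (by omega) (by omega)]; omega
    have hne : (m : ZMod (2 * m)) + 1 ≠ 0 + (m : ZMod (2 * m)) := by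
      rw [zero_add]
      intro h
      exact h10 (add_eq_left.1 h)
    have heq : e ^ q ≠ 0 := pow_ne_zero _ he
    obtain ⟨ν', h'⟩ := hall (-a / e ^ q)
    refine (h.comm2 h' (D.std.orth hne) ?_ ?_).congr rfl ?_ rfl
    · rw [herm_smul_right, D.hvd, mul_zero]
    · rw [herm_smul_left, D.hdv, mul_zero]
    · rw [herm_smul_left, herm_smul_right, D.hdd, mul_one, div_mul_cancel₀ _ heq, neg_neg]
  have hR := R_all hm hv (fun i j h => R_shift hwM hw hγ hwv h) hR0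
  refine top_of_WS (hF := hF) (by omega) hv hwM hw hγ hwv ?_
  intro x hx
  rw [D.expand x]
  refine AddSubgroup.add_mem _ (hall _) (AddSubgroup.sum_mem _ fun j _ => ?_)
  by_cases hj0 : j = 0
  · rw [hj0]; exact mem_WS_self _ _
  · by_cases hjm : j = (m : ZMod (2 * m))
    · rw [hjm, two_half, hx, zero_smul]
      exact AddSubgroup.zero_mem _
    · exact ⟨0, hR 0 j hj0 (by rwa [zero_add]) _⟩

end Cfsg.Agent.H306.DG.PSU
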