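import Cfsg.Agent.H306.DG.Setup

/-!
# Every group between `PSU_n(q)`, `n ≥ 4`, and its automorphism group is 2-generated (helper306, S4180 C8)
-/

set_option autoImplicit false

namespace Cfsg.Agent.H306.DG.PSU

open Cfsg Cfsg.Agent.LieClassical.HermBasic Cfsg.Agent.LieClassical.HermSiegel
  Cfsg.Agent.LieClassical.HermGen Cfsg.Agent.LieClassical.SUBasic
  Cfsg.Agent.ClassicalGeometry.PSUAutCount Cfsg.Agent.ClassicalGeometry.UnitAutBasic Matrix
open Cfsg.Agent.H903.SylSemi Cfsg.Agent.H177.MeetPSU Cfsg.Agent.H137.Herm Cfsg.Agent.H450.GenU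
open Cfsg.Agent.H440.TwoGen

variable {F : Type} [Field F] [Fintype F] {q : ℕ}

section

variable {m : ℕ} [NeZero m]

omit [Fintype F] [NeZero m] in
theorem h10 (hm : 2 ≤ m) : (1 : ZMod (2 * m)) ≠ 0 := by
  have : NeZero m := ⟨by omega⟩
  rw [← Nat.cast_one, ← Nat.cast_zero, Ne, cast_inj (by omega) (by omega)]; omega

omit [Fintype F] [NeZero m] in
theorem h1m (hm : 2 ≤ m) : (1 : ZMod (2 * m)) ≠ (m : ZMod (2 * m)) := by
  have : NeZero m := ⟨by omega⟩
  rw [← Nat.cast_one, Ne, cast_inj (by omega) (by omega)]; omega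

/-- The diagonal entries. -/
def dd (a0 b0 a1 b1 : F) (j : ZMod (2 * m)) : F := dg 0 a0 b0 j * dg 1 a1 b1 j

omit [Fintype F] in
theorem dd_zero (hm : 2 ≤ m) (a0 b0 a1 b1 : F) : dd (m := m) a0 b0 a1 b1 0 = a0 := by
  rw [dd, dg_self, dg_other, mul_one]
  · exact (h10 hm).symm
  · intro h
    apply h1m hm
    have := congrArg (fun t => t + (m : ZMod (2 * m))) h
    simp only [zero_add, add_half_half] at this
    exact this.symm

omit [Fintype F] in
theorem dd_m (hm : 2 ≤ m) (a0 b0 a1 b1 : F) : dd (m := m) a0 b0 a1 b1 (m : ZMod (2 * m)) = b0 := by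
  have := dg_half (m := m) 0 a0 b0
  rw [zero_add] at this
  rw [dd, this, dg_other, mul_one]
  · exact (h1m hm).symm
  · intro h
    exact h10 hm (right_eq_add.1 h)

omit [Fintype F] in
theorem dd_m1 (hm : 2 ≤ m) (a0 b0 a1 b1 : F) :
    dd (m := m) a0 b0 a1 b1 ((m : ZMod (2 * m)) + 1) = b1 := by
  have := dg_half (m := m) 1 a1 b1
  rw [add_comm] at this
  rw [dd, this, dg_other, one_mul]
  · intro h
    apply h1m hm
    have h' := congrArg (fun t => t + (m : ZMod (2 * m))) h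
    simp only [zero_add] at h'
    rw [← h']
    linear_combination -two_half (m := m)
  · rw [zero_add]
    intro h
    exact h10 hm (add_eq_left.1 h)

omit [Fintype F] in
/-- the entry at `-1` -/
theorem dd_neg (hm : 2 ≤ m) (a0 b0 a1 b1 : F) :
    (m = 2 ∧ dd (m := m) a0 b0 a1 b1 (-1) = b1) ∨ (3 ≤ m ∧ dd (m := m) a0 b0 a1 b1 (-1) = 1) := by
  by_cases hm2 : m = 2
  · left
    have e : (-1 : ZMod (2 * m)) = (m : ZMod (2 * m)) + 1 := by
      have h4 : ((2 * m : ℕ) : ZMod (2 * m)) = 0 := ZMod.natCast_self _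
      have h5 : (m : ZMod (2 * m)) = 2 := by
        have : ((m : ℕ) : ZMod (2 * m)) = ((2 : ℕ) : ZMod (2 * m)) := congrArg _ hm2
        rw [this]; norm_num
      rw [Nat.cast_mul, h5] at h4
      rw [h5]
      push_cast at h4
      linear_combination -h4
    exact ⟨hm2, by rw [e, dd_m1 hm]⟩
  · right
    refine ⟨by omega, ?_⟩
    have hneg : (-1 : ZMod (2 * m)) = ((2 * m - 1 : ℕ) : ZMod (2 * m)) := by
      rw [Nat.cast_sub (by omega), ZMod.natCast_self]; simp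
    have hone : (1 : ZMod (2 * m)) = ((1 : ℕ) : ZMod (2 * m)) := Nat.cast_one.symm
    rw [dd, dg_other, dg_other, mul_one]
    · rw [hneg, hone, Ne, cast_inj (by omega) (by omega)]; omega
    · rw [hneg, hone, ← Nat.cast_add, Ne, cast_inj (by omega) (by omega)]; omega
    · rw [hneg, ← Nat.cast_zero, Ne, cast_inj (by omega) (by omega)]; omega
    · rw [zero_add, hneg, Ne, cast_inj (by omega) (by omega)]; omega

omit [Fintype F] in
theorem dd_norm {a0 b0 a1 b1 : F} (h0 : a0 * b0 ^ q = 1) (h0' : b0 * a0 ^ q = 1) (h1 : a1 * b1 ^ q = 1)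
    (h1' : b1 * a1 ^ q = 1) (i : ZMod (2 * m)) :
    dd (m := m) a0 b0 a1 b1 i * dd (m := m) a0 b0 a1 b1 (i + (m : ZMod (2 * m))) ^ q = 1 := by
  have e1 := dg_norm (m := m) (i0 := 0) h0 h0' i
  have e2 := dg_norm (m := m) (i0 := 1) h1 h1' i
  rw [dd, dd, mul_pow]
  linear_combination (dg 1 a1 b1 i * dg 1 a1 b1 (i + (m : ZMod (2 * m))) ^ q) * e1 + e2

omit [Fintype F] [NeZero m] in
theorem dd_prod [Fintype (ZMod (2 * m))] (a0 b0 a1 b1 : F) :
    ∏ j, dd (m := m) a0 b0 a1 b1 j = a0 * b0 * (a1 * b1) := by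
  simp only [dd]
  rw [Finset.prod_mul_distrib, dg_prod, dg_prod]

end

/-- Even dimension. -/
theorem twoGen_even (hF : Fintype.card F = q ^ 2) {m : ℕ} (hm : 2 ≤ m)
    (H : Subgroup (MulAut (PSU (2 * m) F q))) (hH : ∀ x, MulAut.conj x ∈ H) : TwoGen ↥H := by
  have : NeZero m := ⟨by omega⟩
  have : NeZero (2 * m) := ⟨by omega⟩
  have h2 := two_le hF
  have hqq : 2 * q ≤ q ^ 2 := by rw [pow_two]; exact Nat.mul_le_mul_right q h2
  obtain ⟨z, hz0, hz1, hz2⟩ := exists_gen hF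
  have hzq : z ^ q ≠ 0 := pow_ne_zero _ hz0
  obtain ⟨v, W⟩ := exists_witt_even (q := q) hF m
  have hv : Std q v := W.gram
  have hc : Fintype.card (ZMod (2 * m)) = 2 * m := ZMod.card _
  have hrho : ∀ s, rho (2 * m) F q s ∈ LL H := fun s => mem_KK.1 (mem_KK'.2 (hH _))
  obtain ⟨ρ, y0, S0, D, hy0, hy0I, hgenρ, hS0, hS0I, hS0d, hD1, hD2, hgend⟩ := exists_setup hF hz0 hz1 hz2 H
  -- the Weyl element
  obtain ⟨γ, hγ0, w, hw, hwv, hwH⟩ : ∃ γ : ZMod (2 * m) → F, (∀ j, γ j ≠ 0) ∧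
      ∃ w : Equiv.Perm (Fin (2 * m) → F), SI (2 * m) q ρ w ∧ (∀ j, w (v j) = γ j • v (j + 1)) ∧ w ∈ LL H := by
    obtain ⟨w', hw', hw'v⟩ := exists_smono hF ρ W hc (Equiv.addRight 1) (by
      intro i
      simp only [Equiv.coe_addRight]
      ring) (fun _ => 1) (by intro i; simp)
    have h1 : SI (2 * m) q (1 : F ≃+* F) (w' * y0⁻¹) := by
      have := hw'.mul hy0I.inv
      rwa [mul_inv_cancel] at this
    obtain ⟨ε, hε⟩ := Dt.exists h1.1
    have hε0 : ε ≠ 0 := hε.ne_zero (SI.semi_inv h1)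
    have hεn : ε ^ (q + 1) = 1 := hε.norm hF h1
    obtain ⟨j, -, -, hj⟩ := norm_gen hF hz0 hz1 hz2 (x := ε⁻¹) (by rw [inv_pow, hεn, inv_one])
    have hg0 : z ^ j ≠ 0 := pow_ne_zero _ hz0
    have hgq : (z ^ j) ^ q ≠ 0 := pow_ne_zero _ hg0
    obtain ⟨T, hT, hTv⟩ := exists_smono hF (1 : F ≃+* F) W hc 1 (fun _ => rfl) (dg 0 (z ^ j) ((z ^ j) ^ q)⁻¹) (by
      apply dg_norm
      · rw [inv_pow, pow_q_pow_q hF, mul_inv_cancel₀ hg0]
      · exact inv_mul_cancel₀ hgq)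
    have hTd : Dt T ε⁻¹ := by
      have := witt_dt W hc hT 1 _ hTv
      rw [dg_prod] at this
      rw [hj, mul_pow, inv_pow, ← pow_mul, mul_comm q j, pow_mul]
      simpa using this
    refine ⟨fun j' => dg 0 (z ^ j) ((z ^ j) ^ q)⁻¹ (j' + 1), fun j' => dg_ne hg0 (inv_ne_zero hgq) _, T * w', ?_, ?_,
      ?_⟩
    · have := hT.mul hw'
      rwa [one_mul] at this
    · intro j'
      rw [Equiv.Perm.mul_apply, hw'v, one_smul]
      exact hTv _
    · have h3 : SI (2 * m) q (1 : F ≃+* F) (T * (w' * y0⁻¹)) := SI.mul1 hT h1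
      have h4 : Dt (T * (w' * y0⁻¹)) 1 := by
        have := hTd.mul hε
        rwa [inv_mul_cancel₀ hε0] at this
      obtain ⟨s, hs⟩ := exists_rho h3 h4
      have h5 := mul_mem (hrho s) hy0
      rwa [hs, ← mul_assoc, inv_mul_cancel_right] at h5
  -- the torus element
  obtain ⟨a, b, hab, hab', haD⟩ : ∃ a b : ℕ, a + b = D ∧ (a = b + 1 ∨ a = b + 2) ∧ a < q ^ 2 - 1 := by
    rcases Nat.even_or_odd' D with ⟨k, hk | hk⟩
    · exact ⟨k + 1, k - 1, by omega, by omega, by omega⟩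
    · exact ⟨k + 1, k, by omega, by omega, by omega⟩
  have hza : ∀ a : ℕ, z ^ a ≠ 0 := fun a => pow_ne_zero _ hz0
  have hzaq : ∀ a : ℕ, (z ^ a) ^ q ≠ 0 := fun a => pow_ne_zero _ (hza a)
  set δ : ZMod (2 * m) → F := dd (z ^ a) ((z ^ a) ^ q)⁻¹ (z ^ b) ((z ^ b) ^ q)⁻¹ with hδ
  have hnrm : ∀ a : ℕ, z ^ a * (((z ^ a) ^ q)⁻¹) ^ q = 1 := fun a => by
    rw [inv_pow, pow_q_pow_q hF, mul_inv_cancel₀ (hza a)]
  have hnrm' : ∀ a : ℕ, ((z ^ a) ^ q)⁻¹ * (z ^ a) ^ q = 1 := fun a => inv_mul_cancel₀ (hzaq a)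
  obtain ⟨S, hS, hSv⟩ := exists_smono hF (1 : F ≃+* F) W hc 1 (fun _ => rfl) δ
    (dd_norm (hnrm a) (hnrm' a) (hnrm b) (hnrm' b))
  have hSd : Dt S ((z * (z ^ q)⁻¹) ^ D) := by
    have := witt_dt W hc hS 1 _ hSv
    rw [hδ, dd_prod] at this
    have e : z ^ a * ((z ^ a) ^ q)⁻¹ * (z ^ b * ((z ^ b) ^ q)⁻¹) = (z * (z ^ q)⁻¹) ^ D := by
      rw [← hab, pow_add, mul_pow, mul_pow, inv_pow, inv_pow, ← pow_mul, ← pow_mul, ← pow_mul, ← pow_mul,
        mul_comm a q, mul_comm b q]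
    rw [e] at this
    simpa using this
  have hSH : S ∈ LL H := by
    obtain ⟨s, hs⟩ := exists_rho_mul1 hS0I hS hS0d hSd
    rw [hs]
    exact mul_mem (hrho s) hS0
  -- the powers of `z`
  have hzord : z ^ (q ^ 2 - 1) = 1 := by
    have := FiniteField.pow_card_sub_one_eq_one z hz0
    rwa [hF] at this
  have hdvd : ∀ k : ℕ, z ^ k = 1 → (q ^ 2 - 1) ∣ k := by
    intro k hk
    by_contra hnd
    have h1 : z ^ (k % (q ^ 2 - 1)) = 1 := by
      rw [← Nat.div_add_mod k (q ^ 2 - 1), pow_add, pow_mul, hzord, one_pow, one_mul] at hk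
      exact hk
    exact hz2 _ (Nat.pos_of_ne_zero fun h0 => hnd (Nat.dvd_of_mod_eq_zero h0)) (Nat.mod_lt _ (by omega)) h1
  have hfac : q ^ 2 - 1 = (q + 1) * (q - 1) := by
    have := Nat.sq_sub_sq q 1
    rwa [one_pow] at this
  -- the root element
  have hne : (m : ZMod (2 * m)) + 1 ≠ 0 + (m : ZMod (2 * m)) := by
    rw [zero_add]
    intro h
    exact h10 hm (add_eq_left.1 h)
  have hk : IsSiegel q (v 0) (v ((m : ZMod (2 * m)) + 1)) (0 : F) :=
    ⟨hv.iso 0, hv.orth' hne, by rw [hv.iso, zero_pow_q hF]; ring⟩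
  have htH : rho (2 * m) F q (siegel hF (v 0) (v ((m : ZMod (2 * m)) + 1)) 0 hk) * w ∈ LL H :=
    mul_mem (hrho _) hwH
  obtain ⟨-, β1, hβ1, hi1⟩ := hSH
  obtain ⟨-, β2, hβ2, hi2⟩ := htH
  refine Cfsg.Agent.H136.TwoGen.of_ambient H ⟨β1, β2, hβ1, hβ2, ?_⟩
  set M : Subgroup (MulAut (PSU (2 * m) F q)) := Subgroup.closure {β1, β2} with hM
  have hSM : S ∈ LL M := ⟨⟨_, hS⟩, β1, Subgroup.subset_closure (by simp), hi1⟩
  have htM : rho (2 * m) F q (siegel hF (v 0) (v ((m : ZMod (2 * m)) + 1)) 0 hk) * w ∈ LL M :=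
    ⟨⟨_, (SI.rho _).mul hw⟩, β2, Subgroup.subset_closure (by simp), hi2⟩
  obtain ⟨e, he, hae⟩ : ∃ e : ℕ, (e = 1 ∨ e = 2) ∧ a = b + e := by
    rcases hab' with h | h
    · exact ⟨1, Or.inl rfl, h⟩
    · exact ⟨2, Or.inr rfl, h⟩
  have hx : δ 0 ^ q * δ ((m : ZMod (2 * m)) + 1) = (z ^ q) ^ e := by
    rw [hδ, dd_zero hm, dd_m1 hm, hae, pow_add, mul_pow, ← pow_mul z e q, mul_comm e q, pow_mul z q e]
    field_simp
  obtain ⟨htop, hwM⟩ := core_even hF hm W (δ := δ) (by rw [hδ, dd_zero hm]; exact hza a) hγ0 hS hSv hw hwv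
    (by
      rw [hx, ← pow_mul]
      intro h
      have h3 := hdvd _ h
      have h4 : (q ^ 2 - 1) ∣ e := by
        have hco : Nat.Coprime (q ^ 2 - 1) q := by
          have h5 : Nat.Coprime (q ^ 2 - 1) (q ^ 2) :=
            (Nat.coprime_self_sub_left (by omega)).2 (Nat.coprime_one_left _)
          exact Nat.Coprime.coprime_dvd_right (Dvd.intro_left (q ^ 1) (by rw [← pow_succ])) h5
        exact hco.dvd_of_dvd_mul_left h3
      have h5 := Nat.le_of_dvd (by omega) h4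
      omega)
    (by
      rw [hδ, dd_m hm]
      rcases dd_neg hm (z ^ a) ((z ^ a) ^ q)⁻¹ (z ^ b) ((z ^ b) ^ q)⁻¹ with ⟨-, h⟩ | ⟨-, h⟩
      · rw [h, inv_pow, pow_q_pow_q hF, ← mul_inv]
        intro h
        rw [inv_eq_one, ← pow_mul, ← pow_add] at h
        have h3 := hdvd _ h
        rw [hae] at h3
        have h4 : (q + 1) ∣ b + (b + e) * q := Dvd.dvd.trans (Dvd.intro _ hfac.symm) h3
        have h5 : (q + 1) ∣ (b + (b + e) * q) + e := by
          have : (b + (b + e) * q) + e = (b + e) * (q + 1) := by ring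
          rw [this]
          exact Nat.dvd_mul_left _ _
        have h6 : (q + 1) ∣ e := (Nat.dvd_add_right h4).1 h5
        have h7 := Nat.le_of_dvd (by omega) h6
        omega
      · rw [h, one_pow, one_mul]
        intro h
        rw [inv_eq_one] at h
        have h3 : z ^ a = 1 := by
          have := congrArg (fun t => t ^ q) h
          simp only [pow_q_pow_q hF, one_pow] at this
          exact this
        exact hz2 a (by omega) haD h3)
    (by
      intro c hc0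
      rw [hx]
      obtain ⟨k, hk⟩ := hz1 (c ^ q) (pow_ne_zero _ hc0)
      have hpow : (z ^ q) ^ (k * 2) = c ^ 2 := by
        calc (z ^ q) ^ (k * 2) = ((z ^ k) ^ q) ^ 2 := by
              rw [← pow_mul, ← pow_mul, ← pow_mul]
              congr 1
              ring
          _ = c ^ 2 := by rw [hk, pow_q_pow_q hF]
      rcases he with rfl | rfl
      · exact ⟨k * 2, by rw [pow_one, hpow]⟩
      · exact ⟨k, by rw [← pow_mul, mul_comm 2 k, hpow]⟩)
    hk hSM htM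
  exact le_of_gen hF (by omega) (by omega) hw hS hSd hgenρ hgend hwH hSM hwM htop

/-- Odd dimension. -/
theorem twoGen_odd (hF : Fintype.card F = q ^ 2) {m : ℕ} (hm : 2 ≤ m)
    (H : Subgroup (MulAut (PSU (2 * m + 1) F q))) (hH : ∀ x, MulAut.conj x ∈ H) : TwoGen ↥H := by
  have : NeZero m := ⟨by omega⟩
  have : NeZero (2 * m) := ⟨by omega⟩
  have h2 := two_le hF
  have hqq : 2 * q ≤ q ^ 2 := by rw [pow_two]; exact Nat.mul_le_mul_right q h2
  obtain ⟨z, hz0, hz1, hz2⟩ := exists_gen hF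
  have hzq : z ^ q ≠ 0 := pow_ne_zero _ hz0
  have hqpos : 0 < q := by omega
  obtain ⟨Dt0⟩ := exists_odd (q := q) hF m
  have W := Dt0.W
  have hv : Std q Dt0.v := Dt0.std
  have hc : Fintype.card (Option (ZMod (2 * m))) = 2 * m + 1 := by rw [Fintype.card_option, ZMod.card]
  have hrho : ∀ s, rho (2 * m + 1) F q s ∈ LL H := fun s => mem_KK.1 (mem_KK'.2 (hH _))
  obtain ⟨ρ, y0, S0, D, hy0, hy0I, hgenρ, hS0, hS0I, hS0d, hD1, hD2, hgend⟩ := exists_setup hF hz0 hz1 hz2 H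
  set g1 : F := z * (z ^ q)⁻¹ with hg1
  have hg1n : g1 * g1 ^ q = 1 := by
    rw [hg1, mul_pow, inv_pow, pow_q_pow_q hF]
    field_simp
  have hg10 : g1 ≠ 0 := mul_ne_zero hz0 (inv_ne_zero hzq)
  have hg1q : g1 ^ (q + 1) = 1 := by rw [pow_succ']; exact hg1n
  have hnorm : ∀ {x : F}, x ^ (q + 1) = 1 → x * x ^ q = 1 := fun {x} h => by rwa [pow_succ'] at h
  -- the Weyl element
  obtain ⟨b, hb0, w, hw, hwv, hwd, hwH⟩ : ∃ b : F, b ≠ 0 ∧
      ∃ w : Equiv.Perm (Fin (2 * m + 1) → F), SI (2 * m + 1) q ρ w ∧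
        (∀ j, w (Dt0.v j) = (1 : F) • Dt0.v (j + 1)) ∧ w Dt0.d = b • Dt0.d ∧ w ∈ LL H := by
    have hcomm : ∀ i, sgO m (Equiv.optionCongr (Equiv.addRight 1) i) =
        Equiv.optionCongr (Equiv.addRight 1) (sgO m i) := by
      rintro (_ | j)
      · rfl
      · simp only [sgO, Equiv.optionCongr_apply, Option.map_some, Equiv.coe_addRight,
          Option.some.injEq]
        ring
    obtain ⟨w', hw', hw'v⟩ := exists_smono hF ρ W hc (Equiv.optionCongr (Equiv.addRight 1)) hcomm (fun _ => 1)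
      (by intro i; simp)
    have h1 : SI (2 * m + 1) q (1 : F ≃+* F) (w' * y0⁻¹) := by
      have := hw'.mul hy0I.inv
      rwa [mul_inv_cancel] at this
    obtain ⟨ε, hε⟩ := Dt.exists h1.1
    have hε0 : ε ≠ 0 := hε.ne_zero (SI.semi_inv h1)
    have hεn : ε ^ (q + 1) = 1 := hε.norm hF h1
    have hεn' : ε⁻¹ * (ε⁻¹) ^ q = 1 := hnorm (by rw [inv_pow, hεn, inv_one])
    obtain ⟨T, hT, hTv⟩ := exists_smono hF (1 : F ≃+* F) W hc 1 (fun _ => rfl)
      (fun o : Option (ZMod (2 * m)) => (o.elim ε⁻¹ (fun _ => 1) : F)) (by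
        rintro (_ | j)
        · exact hεn'
        · simp [sgO])
    have hTd : Dt T ε⁻¹ := by
      have := witt_dt W hc hT 1 _ hTv
      rw [Fintype.prod_option] at this
      simpa using this
    refine ⟨ε⁻¹, inv_ne_zero hε0, T * w', ?_, ?_, ?_, ?_⟩
    · have := hT.mul hw'
      rwa [one_mul] at this
    · intro j
      have e1 : w' (Dt0.v j) = Dt0.v (j + 1) := by
        have := hw'v (some j)
        rw [one_smul] at this
        exact this
      rw [Equiv.Perm.mul_apply, e1]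
      exact hTv (some (j + 1))
    · have e1 : w' Dt0.d = Dt0.d := by
        have := hw'v none
        rw [one_smul] at this
        exact this
      rw [Equiv.Perm.mul_apply, e1]
      exact hTv none
    · have h3 : SI (2 * m + 1) q (1 : F ≃+* F) (T * (w' * y0⁻¹)) := SI.mul1 hT h1
      have h4 : Dt (T * (w' * y0⁻¹)) 1 := by
        have := hTd.mul hε
        rwa [inv_mul_cancel₀ hε0] at this
      obtain ⟨s, hs⟩ := exists_rho h3 h4
      have h5 := mul_mem (hrho s) hy0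
      rwa [hs, ← mul_assoc, inv_mul_cancel_right] at h5
  -- the powers of `z`
  have hzord : z ^ (q ^ 2 - 1) = 1 := by
    have := FiniteField.pow_card_sub_one_eq_one z hz0
    rwa [hF] at this
  have hpow : ∀ k l : ℕ, l < k → k - l < q ^ 2 - 1 → z ^ k ≠ z ^ l := by
    intro k l hkl hlt h
    refine hz2 (k - l) (by omega) hlt ?_
    have h4 : z ^ (k - l) * z ^ l = 1 * z ^ l := by
      rw [← pow_add, Nat.sub_add_cancel hkl.le, h, one_mul]
    exact mul_right_cancel₀ (pow_ne_zero _ hz0) h4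
  -- the exponent
  obtain ⟨b1, hb1, hb1D⟩ : ∃ b1 : ℕ, z ^ b1 ≠ z ^ (q - 1) ∧
      (g1 ^ b1 = g1 ^ 2 * g1 ^ D ∨ g1 ^ b1 = g1 ^ 2 * (g1 ^ D)⁻¹) := by
    by_cases hq : q = 2
    · by_cases hD : z ^ (D + 2) = z ^ (q - 1)
      · refine ⟨5 - D, ?_, Or.inr ?_⟩
        · intro h
          have hz3 : z ^ 3 = 1 := by rw [hq] at hzord; exact hzord
          rw [hq] at hD h
          have : D = 1 ∨ D = 2 ∨ D = 3 := by omega
          rcases this with rfl | rfl | rfl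
          · exact hpow 3 1 (by omega) (by omega) hD
          · exact hpow 3 1 (by omega) (by rw [hq]; norm_num) h
          · have h5 : z ^ (3 + 2) = z ^ 2 := by rw [pow_add, hz3, one_mul]
            rw [h5] at hD
            exact hpow 2 1 (by omega) (by omega) hD
        · rw [eq_mul_inv_iff_mul_eq₀ (pow_ne_zero _ hg10), ← pow_add, Nat.sub_add_cancel (by omega)]
          have e : (5 : ℕ) = 2 + (q + 1) := by omega
          rw [e, pow_add, hg1q, mul_one]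
      · exact ⟨D + 2, hD, Or.inl (by rw [pow_add, mul_comm])⟩
    · by_cases hD : z ^ (D + 2) = z ^ (q - 1)
      · refine ⟨D + 2 + (q + 1), ?_, Or.inl (by rw [pow_add, hg1q, mul_one, pow_add, mul_comm])⟩
        rw [← hD]
        have hqq3 : 3 * q ≤ q ^ 2 := by rw [pow_two]; exact Nat.mul_le_mul_right q (by omega)
        exact hpow _ _ (by omega) (by omega)
      · exact ⟨D + 2, hD, Or.inl (by rw [pow_add, mul_comm])⟩
  -- the torus element
  have hzb : z ^ b1 ≠ 0 := pow_ne_zero _ hz0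
  have hzbq : (z ^ b1) ^ q ≠ 0 := pow_ne_zero _ hzb
  set δ : ZMod (2 * m) → F := dd z⁻¹ (z ^ q) (z ^ b1) ((z ^ b1) ^ q)⁻¹ with hδ
  set c : F := z ^ q * z⁻¹ with hcc
  have hc0 : c ≠ 0 := mul_ne_zero hzq (inv_ne_zero hz0)
  have hcn : c * c ^ q = 1 := by
    rw [hcc, mul_pow, pow_q_pow_q hF, inv_pow]
    field_simp
  have hc1 : c = z ^ (q - 1) := by
    have h5 : z ^ (q - 1) * z = z ^ q := by rw [← pow_succ, Nat.sub_add_cancel (by omega)]
    rw [hcc, ← h5, mul_inv_cancel_right₀ hz0]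
  obtain ⟨S, hS, hSv⟩ := exists_smono hF (1 : F ≃+* F) W hc 1 (fun _ => rfl)
    (fun o : Option (ZMod (2 * m)) => (o.elim c δ : F)) (by
      rintro (_ | j)
      · exact hcn
      · refine dd_norm (m := m) ?_ ?_ ?_ ?_ j
        · rw [pow_q_pow_q hF, inv_mul_cancel₀ hz0]
        · rw [inv_pow, mul_inv_cancel₀ hzq]
        · rw [inv_pow, pow_q_pow_q hF, mul_inv_cancel₀ hzb]
        · exact inv_mul_cancel₀ hzbq)
  have hSv' : ∀ j, S (Dt0.v j) = δ j • Dt0.v j := fun j => hSv (some j)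
  have hSd' : S Dt0.d = c • Dt0.d := hSv none
  obtain ⟨δ', hSd, hδ'⟩ : ∃ δ' : F, Dt S δ' ∧ (δ' = g1 ^ D ∨ δ' = (g1 ^ D)⁻¹) := by
    refine ⟨g1 ^ b1 * (g1 ^ 2)⁻¹, ?_, ?_⟩
    · have := witt_dt W hc hS 1 _ hSv
      rw [Fintype.prod_option] at this
      simp only [Option.elim] at this
      rw [hδ, dd_prod] at this
      have e : c * (z⁻¹ * z ^ q * (z ^ b1 * ((z ^ b1) ^ q)⁻¹)) = g1 ^ b1 * (g1 ^ 2)⁻¹ := by
        have e1 : z ^ b1 * ((z ^ b1) ^ q)⁻¹ = g1 ^ b1 := by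
          rw [hg1, mul_pow, inv_pow, ← pow_mul, ← pow_mul, mul_comm b1 q]
        rw [e1, hcc, hg1]
        field_simp
      rw [e] at this
      simpa using this
    · rcases hb1D with h | h
      · left
        rw [h, mul_comm (g1 ^ 2), mul_assoc, mul_inv_cancel₀ (pow_ne_zero _ hg10), mul_one]
      · right
        rw [h, mul_comm (g1 ^ 2), mul_assoc, mul_inv_cancel₀ (pow_ne_zero _ hg10), mul_one]
  have hSH : S ∈ LL H := by
    rcases hδ' with rfl | rfl
    · obtain ⟨s, hs⟩ := exists_rho_mul1 hS0I hS hS0d hSd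
      rw [hs]
      exact mul_mem (hrho s) hS0
    · obtain ⟨s, hs⟩ := exists_rho_mul1 (SI.inv1 hS0I) hS (hS0d.inv (SI.semi_inv hS0I)) hSd
      rw [hs]
      exact mul_mem (hrho s) (inv_mem hS0)
  have hgend' : ∀ (y : Equiv.Perm (Fin (2 * m + 1) → F)) (ε : F), y ∈ LL H → SI (2 * m + 1) q (1 : F ≃+* F) y →
      Dt y ε → ∃ k : ℤ, δ' ^ k = ε := by
    intro y ε h1 h2 h3
    obtain ⟨k, hk⟩ := hgend y ε h1 h2 h3
    rcases hδ' with rfl | rfl
    · exact ⟨k, hk⟩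
    · exact ⟨-k, by rw [_root_.inv_zpow', neg_neg, hk]⟩
  obtain ⟨μ, hk⟩ := Dt0.exists_tau hF
  have htH : rho (2 * m + 1) F q (siegel hF (Dt0.v 0) Dt0.d μ hk) * w ∈ LL H := mul_mem (hrho _) hwH
  obtain ⟨-, β1, hβ1, hi1⟩ := hSH
  obtain ⟨-, β2, hβ2, hi2⟩ := htH
  refine Cfsg.Agent.H136.TwoGen.of_ambient H ⟨β1, β2, hβ1, hβ2, ?_⟩
  set M : Subgroup (MulAut (PSU (2 * m + 1) F q)) := Subgroup.closure {β1, β2} with hM
  have hSM : S ∈ LL M := ⟨⟨_, hS⟩, β1, Subgroup.subset_closure (by simp), hi1⟩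
  have htM : rho (2 * m + 1) F q (siegel hF (Dt0.v 0) Dt0.d μ hk) * w ∈ LL M :=
    ⟨⟨_, (SI.rho _).mul hw⟩, β2, Subgroup.subset_closure (by simp), hi2⟩
  have hx : δ 0 ^ q * c = z⁻¹ := by
    rw [hδ, dd_zero hm, hcc, inv_pow, ← mul_assoc, inv_mul_cancel₀ hzq, one_mul]
  obtain ⟨htop, hwM⟩ := core_odd hF hm Dt0 (δ := δ) (γ := fun _ => 1) hb0 (fun _ => one_ne_zero) hS hSv' hSd' hw hwv hwd
    (by
      rw [hx]
      intro h
      rw [inv_eq_one] at h
      exact hz2 1 (by omega) (by omega) (by rw [pow_one, h]))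
    (by
      rw [hδ]
      rcases dd_neg hm z⁻¹ (z ^ q) (z ^ b1) ((z ^ b1) ^ q)⁻¹ with ⟨-, h⟩ | ⟨-, h⟩
      · rw [h, inv_pow, pow_q_pow_q hF, hc1]
        intro h
        apply hb1
        have := congrArg (fun t => z ^ b1 * t) h
        simp only [mul_one, ← mul_assoc, mul_inv_cancel₀ hzb, one_mul] at this
        exact this.symm
      · rw [h, one_pow, one_mul, hc1]
        exact hz2 _ (by omega) (by omega))
    (by
      intro y hy
      rw [hx]
      obtain ⟨k, hk⟩ := hz1 y⁻¹ (inv_ne_zero hy)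
      exact ⟨k, by rw [inv_pow, hk, inv_inv]⟩)
    hk hSM htM
  exact le_of_gen hF (by omega) (by omega) hw hS hSd hgenρ hgend' hwH hSM hwM htop

/-- **Every group between `PSU_n(q)`, `n ≥ 4`, and its automorphism group is 2-generated.** -/
theorem twoGen (hF : Fintype.card F = q ^ 2) {n : ℕ} (hn : 4 ≤ n)
    (H : Subgroup (MulAut (PSU n F q))) (hH : ∀ x, MulAut.conj x ∈ H) : TwoGen ↥H := by
  rcases Nat.even_or_odd' n with ⟨m, h | h⟩
  · subst h
    exact twoGen_even hF (by omega) H hH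
  · subst h
    exact twoGen_odd hF (by omega) H hH

end Cfsg.Agent.H306.DG.PSU
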