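import Cfsg.Agent.H306.DG.Main
import Cfsg.Agent.H984.DG.Gasch

/-!
# S4180, TEAM GEN, C8: the row `psu` of `Rows Cos2` (helper306)
-/

set_option autoImplicit false

namespace Cfsg.Agent.H306.DG

open Cfsg.Agent.H440.TwoGen Cfsg.Agent.H891.Gen Cfsg.Agent.H891.DG Subgroup

universe u

/-- **`Rows.psu` of `Rows Cos2`** -/
theorem cos2_psu : ∀ (T : Type u) [Group T] [Finite T] [IsSimpleGroup T] (F : Type) [Field F] [Fintype F] (n q : ℕ),
    4 ≤ n → Fintype.card F = q ^ 2 → Nonempty (T ≃* Cfsg.PSU n F q) → Cos2 T := by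
  rintro T _ _ _ F _ _ n q hn hF ⟨e⟩
  have : Finite (Cfsg.PSU n F q) := Finite.of_equiv T e.toEquiv
  exact Cfsg.Agent.H984.DG.cos2_congr e (Cfsg.Agent.H984.DG.cos2_of_sub fun S hS =>
    PSU.twoGen hF hn S fun x => hS ⟨x, rfl⟩)

end Cfsg.Agent.H306.DG
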