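import Cfsg.Agent.H306.DG.Core
import Cfsg.Agent.H206.FieldKill
import Cfsg.Agent.H891.Gen.Defs
import Cfsg.Agent.H136.TwoGen

/-!
# The groups between `PSU_n(q)` and its automorphism group: set-up (helper306, S4180 C8)
-/

set_option autoImplicit false

namespace Cfsg.Agent.H306.DG.PSU

open Cfsg Cfsg.Agent.LieClassical.HermBasic Cfsg.Agent.LieClassical.HermSiegel
  Cfsg.Agent.LieClassical.HermGen Cfsg.Agent.LieClassical.SUBasic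
  Cfsg.Agent.ClassicalGeometry.PSUAutCount Cfsg.Agent.ClassicalGeometry.UnitAutBasic Matrix
open Cfsg.Agent.H903.SylSemi Cfsg.Agent.H177.MeetPSU Cfsg.Agent.H137.Herm Cfsg.Agent.H450.GenU

variable {F : Type} [Field F] [Fintype F] {n q : ℕ}

theorem zpow_SI {ρ : F ≃+* F} {w : Equiv.Perm (Fin n → F)} (hw : SI n q ρ w) (m : ℤ) : SI n q (ρ ^ m) (w ^ m) := by
  induction m using Int.induction_on with
  | zero => rw [zpow_zero, zpow_zero]; exact SI.one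
  | succ i ih => rw [_root_.zpow_add_one, _root_.zpow_add_one]; exact ih.mul hw
  | pred i ih => rw [_root_.zpow_sub_one, _root_.zpow_sub_one]; exact ih.mul hw.inv

theorem dt_zpow {y : Equiv.Perm (Fin n → F)} (hy : SI n q (1 : F ≃+* F) y) {δ : F} (h : Dt y δ) (m : ℤ) :
    Dt (y ^ m) (δ ^ m) := by
  have hδ := h.ne_zero (SI.semi_inv hy)
  obtain ⟨k, rfl | rfl⟩ := Int.eq_nat_or_neg m
  · rw [zpow_natCast, zpow_natCast]; exact h.pow k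
  · rw [_root_.zpow_neg, _root_.zpow_neg, zpow_natCast, zpow_natCast]
    exact (h.pow k).inv (SI.semi_inv (SI.pow1 hy k))

/-- Norm one elements are powers of `z ^ (1 - q)`. -/
theorem norm_gen (hF : Fintype.card F = q ^ 2) {z : F} (hz0 : z ≠ 0)
    (hz1 : ∀ y : F, y ≠ 0 → ∃ k : ℕ, z ^ k = y)
    (hz2 : ∀ k : ℕ, 0 < k → k < q ^ 2 - 1 → z ^ k ≠ 1) {x : F} (hx : x ^ (q + 1) = 1) :
    ∃ j : ℕ, 1 ≤ j ∧ j ≤ q + 1 ∧ x = (z * (z ^ q)⁻¹) ^ j := by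
  have h2 := two_le hF
  have hzq : z ^ q ≠ 0 := pow_ne_zero _ hz0
  have hg : (z * (z ^ q)⁻¹) ^ (q + 1) = 1 := by
    rw [pow_succ, mul_pow, inv_pow, pow_q_pow_q hF]
    field_simp
  have key : ∀ x : F, x ^ (q + 1) = 1 → ∃ j : ℕ, x = (z * (z ^ q)⁻¹) ^ j := by
    intro x hx
    have hx0 : x ≠ 0 := by
      rintro rfl
      rw [zero_pow (by omega)] at hx
      exact zero_ne_one hx
    obtain ⟨k, hk⟩ := hz1 x⁻¹ (inv_ne_zero hx0)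
    have hx' : z ^ (k * (q + 1)) = 1 := by
      rw [pow_mul, hk, inv_pow, hx, inv_one]
    have hord : (q ^ 2 - 1) ∣ k * (q + 1) := by
      by_contra hnd
      have h1 : z ^ (k * (q + 1) % (q ^ 2 - 1)) = 1 := by
        have h2 : z ^ (q ^ 2 - 1) = 1 := by
          have := FiniteField.pow_card_sub_one_eq_one z hz0
          rwa [hF] at this
        have h3 := hx'
        rw [← Nat.div_add_mod (k * (q + 1)) (q ^ 2 - 1), pow_add, pow_mul, h2, one_pow, one_mul] at h3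
        exact h3
      have hqq : 2 * 2 ≤ q ^ 2 := by rw [pow_two]; exact Nat.mul_le_mul h2 h2
      refine hz2 _ (Nat.pos_of_ne_zero fun h0 => hnd (Nat.dvd_of_mod_eq_zero h0)) (Nat.mod_lt _ (by omega)) h1
    have hfac : q ^ 2 - 1 = (q - 1) * (q + 1) := by
      have := Nat.sq_sub_sq q 1
      rw [one_pow] at this
      rw [this, mul_comm]
    rw [hfac] at hord
    obtain ⟨j, hj⟩ := Nat.dvd_of_mul_dvd_mul_right (by omega : 0 < q + 1) hord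
    refine ⟨j, ?_⟩
    have h5 : z ^ (q - 1) * z = z ^ q := by rw [← pow_succ, Nat.sub_add_cancel (by omega)]
    have h6 : x = (z ^ k)⁻¹ := by rw [hk, inv_inv]
    rw [h6, hj, pow_mul, ← inv_pow]
    congr 1
    rw [← h5, mul_inv, mul_comm (z ^ (q - 1))⁻¹, ← mul_assoc, mul_inv_cancel₀ hz0, one_mul]
  obtain ⟨j, hj⟩ := key x hx
  have hjj : (z * (z ^ q)⁻¹) ^ j = (z * (z ^ q)⁻¹) ^ (j % (q + 1)) := by
    conv_lhs => rw [← Nat.div_add_mod j (q + 1), pow_add, pow_mul, hg, one_pow, one_mul]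
  have hlt := Nat.mod_lt j (by omega : 0 < q + 1)
  by_cases h0 : j % (q + 1) = 0
  · refine ⟨q + 1, by omega, le_rfl, ?_⟩
    rw [hj, hjj, h0, pow_zero, hg]
  · exact ⟨j % (q + 1), by omega, by omega, by rw [hj, hjj]⟩

/-- The set-up. -/
theorem exists_setup (hF : Fintype.card F = q ^ 2) {z : F} (hz0 : z ≠ 0)
    (hz1 : ∀ y : F, y ≠ 0 → ∃ k : ℕ, z ^ k = y)
    (hz2 : ∀ k : ℕ, 0 < k → k < q ^ 2 - 1 → z ^ k ≠ 1) (H : Subgroup (MulAut (PSU n F q))) :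
    ∃ (ρ : F ≃+* F) (y0 S0 : Equiv.Perm (Fin n → F)) (D : ℕ), y0 ∈ LL H ∧ SI n q ρ y0 ∧
      (∀ (θ : F ≃+* F) (y : Equiv.Perm (Fin n → F)), y ∈ LL H → SI n q θ y → ∃ k : ℤ, ρ ^ k = θ) ∧
      S0 ∈ LL H ∧ SI n q (1 : F ≃+* F) S0 ∧ Dt S0 ((z * (z ^ q)⁻¹) ^ D) ∧ 1 ≤ D ∧ D ≤ q + 1 ∧
      ∀ (y : Equiv.Perm (Fin n → F)) (ε : F), y ∈ LL H → SI n q (1 : F ≃+* F) y → Dt y ε →
        ∃ k : ℤ, ((z * (z ^ q)⁻¹) ^ D) ^ k = ε := by
  classical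
  have hcyc : IsCyclic (F ≃+* F) := Cfsg.Agent.H206.FieldKill.isCyclic_aut F
  let R : Subgroup (F ≃+* F) :=
    { carrier := {ρ | ∃ y ∈ LL H, SI n q ρ y}
      mul_mem' := by
        rintro ρ ρ' ⟨y, h1, h2⟩ ⟨y', h1', h2'⟩
        exact ⟨_, mul_mem h1 h1', h2.mul h2'⟩
      one_mem' := ⟨1, one_mem _, SI.one⟩
      inv_mem' := by
        rintro ρ ⟨y, h1, h2⟩
        exact ⟨_, inv_mem h1, h2.inv⟩ }
  have hR : ∀ ρ, ρ ∈ R ↔ ∃ y ∈ LL H, SI n q ρ y := fun _ => Iff.rfl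
  obtain ⟨⟨ρ0, hρ0⟩, hgen⟩ := IsCyclic.exists_generator (α := ↥R)
  obtain ⟨y0, hy0, hy0I⟩ := (hR _).1 hρ0
  let Δ : Subgroup Fˣ :=
    { carrier := {u | ∃ y ∈ LL H, SI n q (1 : F ≃+* F) y ∧ Dt y (u : F)}
      mul_mem' := by
        rintro a b ⟨y, h1, h2, h3⟩ ⟨y', h1', h2', h3'⟩
        exact ⟨_, mul_mem h1 h1', SI.mul1 h2 h2', by rw [Units.val_mul]; exact h3.mul h3'⟩
      one_mem' := ⟨1, one_mem _, SI.one, by rw [Units.val_one]; exact Dt.one⟩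
      inv_mem' := by
        rintro a ⟨y, h1, h2, h3⟩
        exact ⟨_, inv_mem h1, SI.inv1 h2, by rw [Units.val_inv_eq_inv_val]; exact h3.inv (SI.semi_inv h2)⟩ }
  have hΔ : ∀ u, u ∈ Δ ↔ ∃ y ∈ LL H, SI n q (1 : F ≃+* F) y ∧ Dt y (u : F) := fun _ => Iff.rfl
  obtain ⟨⟨u0, hu0⟩, hgen'⟩ := IsCyclic.exists_generator (α := ↥Δ)
  obtain ⟨S0, hS0, hS0I, hS0d⟩ := (hΔ _).1 hu0
  obtain ⟨D, hD1, hD2, hD⟩ := norm_gen hF hz0 hz1 hz2 (hS0d.norm hF hS0I)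
  refine ⟨ρ0, y0, S0, D, hy0, hy0I, ?_, hS0, hS0I, by rw [← hD]; exact hS0d, hD1, hD2, ?_⟩
  · intro θ y hy hyI
    obtain ⟨k, hk⟩ := hgen ⟨θ, (hR θ).2 ⟨y, hy, hyI⟩⟩
    exact ⟨k, congrArg Subtype.val hk⟩
  · intro y ε hy hyI hyd
    have hε : ε ≠ 0 := hyd.ne_zero (SI.semi_inv hyI)
    obtain ⟨k, hk⟩ := hgen' ⟨Units.mk0 ε hε, (hΔ _).2 ⟨y, hy, hyI, hyd⟩⟩
    refine ⟨k, ?_⟩
    have h1 : u0 ^ k = Units.mk0 ε hε := congrArg Subtype.val hk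
    have h2 := congrArg Units.val h1
    rw [Units.val_zpow_eq_zpow_val, Units.val_mk0] at h2
    rw [← hD, h2]

/-- The end. -/
theorem le_of_gen (hF : Fintype.card F = q ^ 2) (hn : 3 ≤ n) (h32 : ¬ (n = 3 ∧ q = 2))
    {H M : Subgroup (MulAut (PSU n F q))} {S w : Equiv.Perm (Fin n → F)} {ρ : F ≃+* F} {δ : F}
    (hw : SI n q ρ w) (hS : SI n q (1 : F ≃+* F) S) (hSd : Dt S δ)
    (hgenρ : ∀ (θ : F ≃+* F) (y : Equiv.Perm (Fin n → F)), y ∈ LL H → SI n q θ y → ∃ k : ℤ, ρ ^ k = θ)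
    (hgend : ∀ (y : Equiv.Perm (Fin n → F)) (ε : F), y ∈ LL H → SI n q (1 : F ≃+* F) y → Dt y ε →
        ∃ k : ℤ, δ ^ k = ε)
    (hwH : w ∈ LL H) (hSM : S ∈ LL M) (hwM : w ∈ LL M) (htop : KK M = ⊤) : H ≤ M := by
  have hrhoM : ∀ s, rho n F q s ∈ LL M := fun s => mem_KK.1 (by rw [htop]; trivial)
  intro β hβ
  obtain ⟨A, θ, hA⟩ := ClassicalGeometry.PSUAutMain.exists_toAut hF hn h32 β
  have hyI : SI n q θ (yy A θ) := SI.yy A θ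
  have hyH : yy A θ ∈ LL H := ⟨⟨_, hyI⟩, β, hβ, by rw [hA]; exact ind_yy A θ⟩
  obtain ⟨k, hk⟩ := hgenρ θ _ hyH hyI
  have h1 : SI n q (1 : F ≃+* F) (yy A θ * (w ^ k)⁻¹) := by
    have := hyI.mul (zpow_SI hw k).inv
    rwa [hk, mul_inv_cancel] at this
  have h1H : yy A θ * (w ^ k)⁻¹ ∈ LL H := mul_mem hyH (inv_mem (zpow_mem hwH k))
  obtain ⟨ε, hε⟩ := Dt.exists h1.1
  obtain ⟨j, hj⟩ := hgend _ ε h1H h1 hε
  have hSj : SI n q (1 : F ≃+* F) (S ^ j) := by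
    have := zpow_SI hS j
    rwa [_root_.one_zpow] at this
  obtain ⟨s, hs⟩ := exists_rho_mul1 hSj h1 (dt_zpow hS hSd j) (by rw [hj]; exact hε)
  have h2 : yy A θ * (w ^ k)⁻¹ ∈ LL M := by
    rw [hs]
    exact mul_mem (hrhoM s) (zpow_mem hSM j)
  have h3 : yy A θ ∈ LL M := by
    have := mul_mem h2 (zpow_mem hwM k)
    rwa [inv_mul_cancel_right] at this
  obtain ⟨-, β', hβ', hi⟩ := h3
  rw [hA, ← Ind.unique pr_surjective rho_injective hi (ind_yy A θ)]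
  exact hβ'

end Cfsg.Agent.H306.DG.PSU
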